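import Mathlib
import Groth.Agent.Lib.EGA2.Graded

/-!
# The conductor of a graded domain into its integral closure is homogeneous
-/

set_option autoImplicit false
set_option linter.style.haveILetI false

universe u

open Polynomial DirectSum

namespace Groth.Agent.NormCone28

variable {k : Type u} [Field k] {G : Type u} [CommRing G] [Algebra k G]
  (𝒢 : ℕ → Submodule k G) [GradedAlgebra 𝒢]

/-- The map `x ↦ ∑ xₙ Xⁿ`. -/
noncomputable def hom : G →+* G[X] :=
  (DirectSum.toSemiring (fun n => ((Polynomial.monomial n).toAddMonoidHom).comp (𝒢 n).subtype.toAddMonoidHom)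
    (by show Polynomial.monomial 0 (1 : G) = 1; simp)
    (fun {i j} x y => by
      show Polynomial.monomial (i + j) (x.1 * y.1) = Polynomial.monomial i x.1 * Polynomial.monomial j y.1
      rw [Polynomial.monomial_mul_monomial])).comp (DirectSum.decomposeRingEquiv 𝒢).toRingHom

theorem hom_of_mem {n : ℕ} {x : G} (hx : x ∈ 𝒢 n) : hom 𝒢 x = Polynomial.monomial n x := by
  rw [hom, RingHom.comp_apply]
  show DirectSum.toSemiring _ _ _ (decompose 𝒢 x) = _
  rw [DirectSum.decompose_of_mem 𝒢 hx, DirectSum.toSemiring_of]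
  rfl

theorem coeff_hom (x : G) (n : ℕ) : (hom 𝒢 x).coeff n = (decompose 𝒢 x n : G) := by
  classical
  induction x using DirectSum.Decomposition.inductionOn 𝒢 with
  | zero => simp
  | @homogeneous i y =>
    rw [hom_of_mem 𝒢 y.2, Polynomial.coeff_monomial]
    split_ifs with h
    · subst h; rw [DirectSum.decompose_of_mem_same 𝒢 y.2]
    · rw [DirectSum.decompose_of_mem_ne 𝒢 y.2 h]
  | add a b ha hb => simp [ha, hb]

theorem eval_hom (x : G) : (hom 𝒢 x).eval 1 = x := by
  induction x using DirectSum.Decomposition.inductionOn 𝒢 with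
  | zero => simp
  | @homogeneous i y => simp [hom_of_mem 𝒢 y.2]
  | add a b ha hb => simp [ha, hb]

theorem hom_injective : Function.Injective (hom 𝒢) :=
  fun a b hab => by rw [← eval_hom 𝒢 a, hab, eval_hom 𝒢 b]

variable [IsDomain G] {L : Type u} [Field L] [Algebra G L] [IsFractionRing G L]

variable (L) in
/-- The same map into `L[X]`. -/
noncomputable def homL : G →+* L[X] := (Polynomial.mapRingHom (algebraMap G L)).comp (hom 𝒢)

theorem coeff_homL (x : G) (n : ℕ) : (homL 𝒢 L x).coeff n = algebraMap G L (decompose 𝒢 x n : G) := by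
  simp [homL, coeff_hom]

theorem homL_injective : Function.Injective (homL 𝒢 L) :=
  (Polynomial.map_injective (algebraMap G L) (IsFractionRing.injective G L)).comp (hom_injective 𝒢)

/-- An element of the integral closure becomes a polynomial with integral coefficients. -/
theorem exists_integral_poly {a b : G} (hb : b ≠ 0) {h : L} (hint : IsIntegral G h)
    (hab : h * algebraMap G L b = algebraMap G L a) :
    ∃ w : L[X], (∀ n, IsIntegral G (w.coeff n)) ∧ homL 𝒢 L b * w = homL 𝒢 L a := by
  let F := FractionRing L[X]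
  let ι := algebraMap L[X] F
  have hinj : Function.Injective (ι.comp (homL 𝒢 L)) :=
    (IsFractionRing.injective L[X] F).comp (homL_injective 𝒢)
  let ψ : L →+* F := IsFractionRing.lift hinj
  have hψ : ∀ x, ψ (algebraMap G L x) = ι (homL 𝒢 L x) := IsFractionRing.lift_algebraMap hinj
  letI algP : Algebra G[X] L[X] := (Polynomial.mapRingHom (algebraMap G L)).toAlgebra
  have hz : IsIntegral G[X] (ψ h) :=
    hint.map_of_comp_eq (hom 𝒢) ψ (RingHom.ext fun x => by
      rw [RingHom.comp_apply, RingHom.comp_apply, hψ, IsScalarTower.algebraMap_apply G[X] L[X] F]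
      rfl)
  obtain ⟨w, hw⟩ := IsIntegrallyClosed.isIntegral_iff.1 (hz.tower_top (A := L[X]))
  have hwi : IsIntegral G[X] w :=
    (isIntegral_algebraMap_iff (IsFractionRing.injective L[X] F)).1 (hw ▸ hz)
  refine ⟨w, Polynomial.isIntegral_iff_isIntegral_coeff.1 hwi, ?_⟩
  apply IsFractionRing.injective L[X] F
  rw [map_mul, ← hψ, ← hψ, hw, ← map_mul, mul_comm, hab]

theorem mul_component_mem_range {c : G}
    (hc : ∀ h : L, IsIntegral G h → algebraMap G L c * h ∈ Set.range (algebraMap G L)) (n : ℕ) :
    ∀ (h : L), IsIntegral G h →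
      algebraMap G L (decompose 𝒢 c n : G) * h ∈ Set.range (algebraMap G L) := by
  classical
  suffices key : ∀ (m : ℕ) (w : L[X]), w.support.card ≤ m → (∀ i, IsIntegral G (w.coeff i)) →
      ∀ (a b : G) (h : L), b ≠ 0 → h * algebraMap G L b = algebraMap G L a → homL 𝒢 L b * w = homL 𝒢 L a →
        algebraMap G L (decompose 𝒢 c n : G) * h ∈ Set.range (algebraMap G L) by
    intro h hint
    obtain ⟨⟨a, b⟩, hab⟩ := IsLocalization.surj (nonZeroDivisors G) h
    obtain ⟨w, hw, hwe⟩ := exists_integral_poly 𝒢 (nonZeroDivisors.ne_zero b.2) hint hab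
    exact key _ w le_rfl hw a b h (nonZeroDivisors.ne_zero b.2) hab hwe
  have zero_case : ∀ (a b : G) (h : L), b ≠ 0 → h * algebraMap G L b = algebraMap G L a →
      homL 𝒢 L b * 0 = homL 𝒢 L a → h = 0 := by
    intro a b h hb hab he
    rw [mul_zero] at he
    have ha : a = 0 := homL_injective 𝒢 (he.symm.trans (map_zero _).symm)
    rw [ha, map_zero, mul_eq_zero] at hab
    exact hab.resolve_right fun h0 => hb (IsFractionRing.injective G L (h0.trans (map_zero _).symm))
  intro m
  induction m with
  | zero =>
    intro w hw _ a b h hb hab he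
    have : w = 0 := by simpa using hw
    rw [this] at he
    rw [zero_case a b h hb hab he, mul_zero]
    exact ⟨0, map_zero _⟩
  | succ m ih =>
    intro w hw hwint a b h hb hab he
    rcases eq_or_ne w 0 with rfl | hw0
    · rw [zero_case a b h hb hab he, mul_zero]
      exact ⟨0, map_zero _⟩
    let j := w.natTrailingDegree
    let i₀ := (homL 𝒢 L b).natTrailingDegree
    let q : G := (decompose 𝒢 b i₀ : G)
    let p : G := (decompose 𝒢 a (i₀ + j) : G)
    let e : L := w.coeff j
    have hb0 : homL 𝒢 L b ≠ 0 := fun h0 => hb (homL_injective 𝒢 (h0.trans (map_zero _).symm))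
    have hq : algebraMap G L q ≠ 0 := by
      rw [← coeff_homL]
      exact Polynomial.trailingCoeff_nonzero_iff_nonzero.2 hb0
    have hpe : e * algebraMap G L q = algebraMap G L p := by
      rw [← coeff_homL, ← coeff_homL, ← he, mul_comm]
      exact (Polynomial.coeff_mul_natTrailingDegree_add_natTrailingDegree (p := homL 𝒢 L b) (q := w)).symm
    -- the lowest piece
    obtain ⟨g, hg⟩ := hc e (hwint j)
    have hgq : q * g = c * p := IsFractionRing.injective G L (by rw [map_mul, map_mul, hg, ← hpe]; ring)
    have h1 : q * (decompose 𝒢 g (n + j) : G) = (decompose 𝒢 c n : G) * p := by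
      have h' := congrArg (fun z : G => (decompose 𝒢 z (i₀ + (n + j)) : G)) hgq
      simp only at h'
      rw [DirectSum.coe_decompose_mul_add_of_left_mem 𝒢 (SetLike.coe_mem _),
        show i₀ + (n + j) = n + (i₀ + j) by omega,
        DirectSum.coe_decompose_mul_add_of_right_mem 𝒢 (SetLike.coe_mem _)] at h'
      exact h'
    have he1 : algebraMap G L (decompose 𝒢 c n : G) * e ∈ Set.range (algebraMap G L) :=
      ⟨(decompose 𝒢 g (n + j) : G), mul_right_cancel₀ hq (by
        rw [mul_assoc, hpe, ← map_mul, ← map_mul, ← h1, mul_comm])⟩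
    -- the rest
    have hhomq : homL 𝒢 L q = Polynomial.monomial i₀ (algebraMap G L q) := by
      simp [homL, hom_of_mem 𝒢 (SetLike.coe_mem _), q]
    have hhomp : homL 𝒢 L p = Polynomial.monomial (i₀ + j) (algebraMap G L p) := by
      simp [homL, hom_of_mem 𝒢 (SetLike.coe_mem _), p]
    have hrest := ih (w - Polynomial.monomial j e) ?_ (fun i => ?_) (a * q - b * p) (b * q) (h - e)
      (mul_ne_zero hb fun h0 => hq (by rw [h0, map_zero])) ?_ ?_
    · obtain ⟨g1, hg1⟩ := he1
      obtain ⟨g2, hg2⟩ := hrest
      exact ⟨g1 + g2, by rw [map_add, hg1, hg2, ← mul_add, add_sub_cancel]⟩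
    · have hsub : w - Polynomial.monomial j e = w.erase j := by
        rw [sub_eq_iff_eq_add]
        exact ((Polynomial.monomial_add_erase w j).symm.trans (add_comm _ _))
      rw [hsub, Polynomial.support_erase]
      have hj : j ∈ w.support := Polynomial.natTrailingDegree_mem_support_of_nonzero hw0
      rw [Finset.card_erase_of_mem hj]
      omega
    · rw [Polynomial.coeff_sub, Polynomial.coeff_monomial]
      split_ifs
      · exact (hwint i).sub (hwint j)
      · simpa using hwint i
    · rw [map_sub, map_mul, map_mul, map_mul, sub_mul, ← hab, ← hpe]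
      ring
    · rw [map_sub, map_mul, map_mul, map_mul, ← he, hhomq, hhomp, ← hpe, mul_sub,
        mul_assoc _ _ (Polynomial.monomial j e), Polynomial.monomial_mul_monomial, mul_comm e]
      ring

/-- The conductor of `G` in its integral closure. -/
def conductor (G L : Type u) [CommRing G] [Field L] [Algebra G L] : Ideal G where
  carrier := {c | ∀ h : L, IsIntegral G h → algebraMap G L c * h ∈ Set.range (algebraMap G L)}
  add_mem' {a b} ha hb h hh := by
    obtain ⟨x, hx⟩ := ha h hh
    obtain ⟨y, hy⟩ := hb h hh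
    exact ⟨x + y, by rw [map_add, map_add, hx, hy, add_mul]⟩
  zero_mem' h _ := ⟨0, by simp⟩
  smul_mem' r x hx h hh := by
    obtain ⟨y, hy⟩ := hx h hh
    exact ⟨r * y, by rw [smul_eq_mul, map_mul, map_mul, hy, mul_assoc]⟩

theorem isHomogeneous_conductor : (conductor G L).IsHomogeneous 𝒢 :=
  fun n _ hc => mul_component_mem_range 𝒢 hc n

end Groth.Agent.NormCone28
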