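import Groth.Agent.Lib.NormCone28.Grading
import Groth.Agent.Lib.HilbSam.Poly
import Groth.Agent.Lib.IntClosFin.Main
import Groth.Agent.Lib.VarDim.Alg
import Groth.Agent.Lib.SerreCrit.Basic
import Groth.Agent.Lib.FiltBl28.ReesS2
import Groth.Agent.S11591
import Groth.Agent.S11593
import Groth.Agent.S11600
import Groth.Agent.S11601

/-!
# Graded domains which are normal off the vertex
-/

set_option autoImplicit false
set_option linter.style.haveILetI false

universe u

open DirectSum

namespace Groth.Agent.NormCone28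

variable {k : Type u} [Field k] {G : Type u} [CommRing G] [IsDomain G] [Algebra k G] [IsNoetherianRing G]
  (𝒢 : ℕ → Submodule k G) [GradedAlgebra 𝒢] (L : Type u) [Field L] [Algebra G L] [IsFractionRing G L]

local notation "Gp" => HomogeneousIdeal.toIdeal (HomogeneousIdeal.irrelevant 𝒢)

local notation "Q₀" => ((integralClosure G L) ⧸ LinearMap.range (Algebra.linearMap G (integralClosure G L)))

theorem finiteType (h0 : ∀ x ∈ 𝒢 0, x ∈ Set.range (algebraMap k G)) : Algebra.FiniteType k G := by
  have hft : Algebra.FiniteType (𝒢 0) G := (EGA2.irrelevant_fg_iff 𝒢).1 (IsNoetherian.noetherian _)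
  have hs : Function.Surjective (algebraMap k (𝒢 0)) := fun x => by
    obtain ⟨c, hc⟩ := h0 x x.2
    exact ⟨c, Subtype.ext hc⟩
  haveI : Algebra.FiniteType k (𝒢 0) := Algebra.FiniteType.of_surjective (Algebra.ofId k (𝒢 0)) hs
  haveI : IsScalarTower k (𝒢 0) G := ⟨fun a b c => smul_assoc a (b : G) c⟩
  exact Algebra.FiniteType.trans (S := 𝒢 0) inferInstance hft

theorem le_irrelevant (h0 : ∀ x ∈ 𝒢 0, x ∈ Set.range (algebraMap k G)) (I : Ideal G) (hI : I ≠ ⊤)
    (hh : I.IsHomogeneous 𝒢) : I ≤ Gp := by
  intro x hx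
  rw [EGA2.mem_irr_iff]
  obtain ⟨c, hc⟩ := h0 _ (SetLike.coe_mem (decompose 𝒢 x 0))
  by_contra hne
  have hc0 : c ≠ 0 := fun h => hne (by rw [← hc, h, map_zero])
  have : (decompose 𝒢 x 0 : G) ∈ I := hh 0 hx
  rw [← hc] at this
  exact hI (Ideal.eq_top_of_isUnit_mem _ this ((IsUnit.mk0 c hc0).map _))

theorem isMaximal_irrelevant (h0 : ∀ x ∈ 𝒢 0, x ∈ Set.range (algebraMap k G)) : Ideal.IsMaximal Gp := by
  refine Ideal.isMaximal_iff.2 ⟨?_, fun J x hJ hx hxJ => ?_⟩
  · rw [EGA2.mem_irr_iff, DirectSum.decompose_of_mem_same 𝒢 SetLike.GradedOne.one_mem]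
    exact one_ne_zero
  · obtain ⟨c, hc⟩ := h0 _ (SetLike.coe_mem (decompose 𝒢 x 0))
    have hd : x - algebraMap k G c ∈ Gp := by
      have hmem : algebraMap k G c ∈ 𝒢 0 := SetLike.algebraMap_mem_graded 𝒢 c
      rw [EGA2.mem_irr_iff, DirectSum.decompose_sub, DirectSum.sub_apply, AddSubgroupClass.coe_sub,
        DirectSum.decompose_of_mem_same 𝒢 hmem, hc, sub_self]
    have hc0 : c ≠ 0 := fun h => hx (by simpa [h] using hd)
    have hcJ : algebraMap k G c ∈ J := by simpa using sub_mem hxJ (hJ hd)
    rw [Ideal.eq_top_of_isUnit_mem _ hcJ ((IsUnit.mk0 c hc0).map _)]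
    trivial

theorem annihilator_eq : Module.annihilator G Q₀ = conductor G L := by
  ext c
  rw [Module.mem_annihilator]
  refine ⟨fun h y hy => ?_, fun h m => ?_⟩
  · have := h (Submodule.Quotient.mk ⟨y, hy⟩)
    rw [← Submodule.Quotient.mk_smul, Submodule.Quotient.mk_eq_zero] at this
    obtain ⟨g, hg⟩ := this
    exact ⟨g, by rw [← Algebra.smul_def]; exact congrArg Subtype.val hg⟩
  · obtain ⟨⟨y, hy⟩, rfl⟩ := Submodule.Quotient.mk_surjective _ m
    obtain ⟨g, hg⟩ := h y hy
    rw [← Submodule.Quotient.mk_smul, Submodule.Quotient.mk_eq_zero]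
    exact ⟨g, Subtype.ext (by rw [← Algebra.smul_def] at hg; exact hg)⟩

theorem finite_integralClosure (h0 : ∀ x ∈ 𝒢 0, x ∈ Set.range (algebraMap k G)) :
    Module.Finite G (integralClosure G L) := by
  haveI := finiteType 𝒢 h0
  exact IntClosFin.finite_integralClosure k G L L

omit [IsDomain G] [IsNoetherianRing G] in
theorem isArtinianRing_quotient_annihilator (R M : Type u) [CommRing R] [AddCommGroup M] [Module R M]
    [Module.Finite R M] [IsArtinian R M] : IsArtinianRing (R ⧸ Module.annihilator R M) := by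
  classical
  obtain ⟨n, s, hs⟩ := Module.Finite.exists_fin (R := R) (M := M)
  let φ : R →ₗ[R] (Fin n → M) := LinearMap.pi fun i => LinearMap.toSpanSingleton R M (s i)
  have hker : LinearMap.ker φ = Module.annihilator R M := by
    ext r
    rw [LinearMap.mem_ker, Module.mem_annihilator]
    refine ⟨fun h m => ?_, fun h => funext fun i => h (s i)⟩
    have hm : m ∈ Submodule.span R (Set.range s) := by rw [hs]; trivial
    induction hm using Submodule.span_induction with
    | mem _ h' => obtain ⟨i, rfl⟩ := h'; exact congrFun h i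
    | zero => exact smul_zero r
    | add a b _ _ ha hb => rw [smul_add, ha, hb, add_zero]
    | smul c a _ ha => rw [smul_comm, ha, smul_zero]
  haveI : IsArtinian R (R ⧸ LinearMap.ker φ) :=
    isArtinian_of_injective ((LinearMap.ker φ).liftQ φ le_rfl)
      (LinearMap.ker_eq_bot.1 (Submodule.ker_liftQ_eq_bot _ _ _ le_rfl))
  haveI : IsArtinian R (R ⧸ Module.annihilator R M) := hker ▸ this
  exact isArtinian_of_tower R this

theorem conductor_not_le (h0 : ∀ x ∈ 𝒢 0, x ∈ Set.range (algebraMap k G)) (hfin : IsFiniteLength G Q₀)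
    (p : Ideal G) [p.IsPrime] (hp : p ≠ Gp) : ¬ conductor G L ≤ p := by
  intro hle
  haveI := finite_integralClosure 𝒢 L h0
  haveI : Module.Finite G Q₀ := inferInstance
  have hmem : ∀ (q : Ideal G) [q.IsPrime], conductor G L ≤ q → q.IsMaximal := by
    intro q _ hq
    have hann : IsArtinianRing (G ⧸ Module.annihilator G Q₀) := by
      obtain ⟨hN, hA⟩ := isFiniteLength_iff_isNoetherian_isArtinian.1 hfin
      exact isArtinianRing_quotient_annihilator G Q₀
    have hq' : Module.annihilator G Q₀ ≤ q := (annihilator_eq L).le.trans hq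
    haveI : (q.map (Ideal.Quotient.mk (Module.annihilator G Q₀))).IsPrime :=
      Ideal.map_isPrime_of_surjective Ideal.Quotient.mk_surjective (by rwa [Ideal.mk_ker])
    have hmax : (q.map (Ideal.Quotient.mk (Module.annihilator G Q₀))).IsMaximal :=
      IsArtinianRing.isMaximal_of_isPrime _
    have := Ideal.comap_isMaximal_of_surjective (Ideal.Quotient.mk (Module.annihilator G Q₀))
      Ideal.Quotient.mk_surjective (K := q.map (Ideal.Quotient.mk (Module.annihilator G Q₀)))
    rwa [Ideal.comap_map_of_surjective _ Ideal.Quotient.mk_surjective, ← RingHom.ker_eq_comap_bot,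
      Ideal.mk_ker, sup_eq_left.2 hq'] at this
  have hpm := hmem p hle
  let P := (p.homogeneousCore 𝒢).toIdeal
  haveI : P.IsPrime := Ideal.IsPrime.homogeneousCore ‹_›
  have hP : conductor G L ≤ P := by
    rw [← (isHomogeneous_conductor (L := L) 𝒢).toIdeal_homogeneousCore_eq_self]
    exact Ideal.homogeneousCore_mono 𝒢 hle
  have hPp : P = p := (hmem P hP).eq_of_le hpm.ne_top (Ideal.toIdeal_homogeneousCore_le 𝒢 p)
  refine hp (hpm.eq_of_le (isMaximal_irrelevant 𝒢 h0).ne_top ?_)
  exact le_irrelevant 𝒢 h0 p hpm.ne_top (hPp ▸ (p.homogeneousCore 𝒢).isHomogeneous)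

omit [IsNoetherianRing G] in
theorem isIntegrallyClosed_of_not_le (p : Ideal G) [p.IsPrime] (hp : ¬ conductor G L ≤ p) :
    IsIntegrallyClosed (Localization.AtPrime p) := by
  obtain ⟨s, hs, hsp⟩ := SetLike.not_le_iff_exists.1 hp
  have hunit : ∀ y : p.primeCompl, IsUnit (algebraMap G L y) := fun y =>
    IsUnit.mk0 _ fun h => y.2 (by rw [(IsFractionRing.injective G L) (h.trans (map_zero _).symm)]; exact p.zero_mem)
  letI : Algebra (Localization.AtPrime p) L := (IsLocalization.lift hunit).toAlgebra
  haveI : IsScalarTower G (Localization.AtPrime p) L :=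
    IsScalarTower.of_algebraMap_eq fun x => (IsLocalization.lift_eq hunit x).symm
  haveI : IsFractionRing (Localization.AtPrime p) L :=
    IsFractionRing.isFractionRing_of_isDomain_of_isLocalization p.primeCompl (Localization.AtPrime p) L
  rw [isIntegrallyClosed_iff L]
  intro x hx
  obtain ⟨⟨t, ht⟩, hti⟩ := IsIntegral.exists_multiple_integral_of_isLocalization p.primeCompl x hx
  obtain ⟨g, hg⟩ := hs _ hti
  refine ⟨IsLocalization.mk' _ g ⟨s * t, mul_mem (show s ∈ p.primeCompl from hsp) ht⟩, ?_⟩
  show IsLocalization.lift hunit _ = x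
  rw [IsLocalization.lift_mk'_spec, hg, map_mul, mul_assoc]
  congr 1
  exact Submonoid.smul_def _ _ |>.trans (Algebra.smul_def _ _)

theorem conductor_not_le_of_isIntegrallyClosed (h0 : ∀ x ∈ 𝒢 0, x ∈ Set.range (algebraMap k G))
    (p : Ideal G) [p.IsPrime] (hp : IsIntegrallyClosed (Localization.AtPrime p)) : ¬ conductor G L ≤ p := by
  classical
  haveI := finite_integralClosure 𝒢 L h0
  have hunit : ∀ y : p.primeCompl, IsUnit (algebraMap G L y) := fun y =>
    IsUnit.mk0 _ fun h => y.2 (by rw [(IsFractionRing.injective G L) (h.trans (map_zero _).symm)]; exact p.zero_mem)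
  letI : Algebra (Localization.AtPrime p) L := (IsLocalization.lift hunit).toAlgebra
  haveI : IsScalarTower G (Localization.AtPrime p) L :=
    IsScalarTower.of_algebraMap_eq fun x => (IsLocalization.lift_eq hunit x).symm
  haveI : IsFractionRing (Localization.AtPrime p) L :=
    IsFractionRing.isFractionRing_of_isDomain_of_isLocalization p.primeCompl (Localization.AtPrime p) L
  have hloc : ∀ y : L, IsIntegral G y → ∃ t ∉ p, algebraMap G L t * y ∈ Set.range (algebraMap G L) := by
    intro y hy
    obtain ⟨z, hz⟩ := IsIntegrallyClosed.isIntegral_iff.1 (hy.tower_top (A := Localization.AtPrime p))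
    obtain ⟨⟨g, t⟩, hgt⟩ := IsLocalization.surj p.primeCompl z
    refine ⟨t, t.2, g, ?_⟩
    rw [IsScalarTower.algebraMap_apply G (Localization.AtPrime p) L, ← hgt, map_mul, hz,
      ← IsScalarTower.algebraMap_apply, mul_comm]
  obtain ⟨E, hE⟩ := Module.finite_def.1 ‹Module.Finite G (integralClosure G L)›
  choose t ht htr using fun y : E => hloc (y.1 : L) y.1.2
  intro hle
  have hprod : (∏ y, t y) ∈ conductor G L := by
    intro h hh
    have hmem : (⟨h, hh⟩ : integralClosure G L) ∈ Submodule.span G (E : Set (integralClosure G L)) := by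
      rw [hE]; trivial
    have key : ∀ z ∈ Submodule.span G (E : Set (integralClosure G L)),
        algebraMap G L (∏ y, t y) * (z : L) ∈ Set.range (algebraMap G L) := by
      intro z hz
      induction hz using Submodule.span_induction with
      | mem z hz =>
        obtain ⟨d, hd⟩ : t ⟨z, hz⟩ ∣ ∏ y, t y := Finset.dvd_prod_of_mem _ (Finset.mem_univ _)
        obtain ⟨g, hg⟩ := htr ⟨z, hz⟩
        exact ⟨d * g, by rw [map_mul, hg, hd, map_mul]; ring⟩
      | zero => exact ⟨0, by simp⟩
      | add a b _ _ ha hb =>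
        obtain ⟨g, hg⟩ := ha
        obtain ⟨g', hg'⟩ := hb
        exact ⟨g + g', by rw [map_add, hg, hg', AddMemClass.coe_add, mul_add]⟩
      | smul r a _ ha =>
        obtain ⟨g, hg⟩ := ha
        refine ⟨r * g, ?_⟩
        rw [map_mul, hg, show ((r • a : integralClosure G L) : L) = r • (a : L) from rfl, Algebra.smul_def]
        ring
    exact key _ hmem
  exact (prod_mem (fun y _ => show t y ∈ p.primeCompl from ht y)) (hle hprod)

theorem normal_punctured_iff (h0 : ∀ x ∈ 𝒢 0, x ∈ Set.range (algebraMap k G)) :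
    (∀ (p : Ideal G) [p.IsPrime], ¬ Gp ≤ p → IsIntegrallyClosed (Localization.AtPrime p)) ↔
      IsFiniteLength G Q₀ := by
  haveI := finite_integralClosure 𝒢 L h0
  refine ⟨fun h => HilbSam.isFiniteLength_of_support fun p hp => ?_, fun h p _ hp => ?_⟩
  · by_cases hle : Gp ≤ p.asIdeal
    · rw [← (isMaximal_irrelevant 𝒢 h0).eq_of_le p.2.ne_top hle]
      exact isMaximal_irrelevant 𝒢 h0
    · refine absurd ?_ (conductor_not_le_of_isIntegrallyClosed 𝒢 L h0 p.asIdeal (h _ hle))
      rw [Module.support_eq_zeroLocus, PrimeSpectrum.mem_zeroLocus] at hp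
      exact (annihilator_eq L).ge.trans hp
  · exact isIntegrallyClosed_of_not_le L p
      (conductor_not_le 𝒢 L h0 h p fun he => hp he.ge)

/-- The module form of `H¹_{G₊}(G) ≅ Ḡ/G`. -/
theorem nonempty_equiv_H_one (h0 : ∀ x ∈ 𝒢 0, x ∈ Set.range (algebraMap k G))
    (hdim : 2 ≤ ringKrullDim G) (hfin : IsFiniteLength G Q₀) :
    Nonempty (Q₀ ≃ₗ[G] LocCoh.H Gp 1 G) := by
  haveI := finiteType 𝒢 h0
  haveI hC := finite_integralClosure 𝒢 L h0
  haveI := isMaximal_irrelevant 𝒢 h0
  let C := integralClosure G L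
  haveI : IsFractionRing C L := integralClosure.isFractionRing_of_finite_extension L L
  haveI : IsIntegrallyClosed C := integralClosure.isIntegrallyClosedOfFiniteExtension L
  haveI : IsNoetherianRing C := isNoetherian_of_tower G (isNoetherian_of_isNoetherianRing_of_finite G C)
  -- primes over the vertex have height at least two
  have hht : ∀ (M : Ideal C) [M.IsPrime], Gp ≤ M.comap (algebraMap G C) → 2 ≤ M.height := by
    intro M _ hM
    letI : Algebra k C := ((algebraMap G C).comp (algebraMap k G)).toAlgebra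
    haveI : IsScalarTower k G C := IsScalarTower.of_algebraMap_eq fun _ => rfl
    haveI : Algebra.FiniteType k C := Algebra.FiniteType.trans (S := G) inferInstance inferInstance
    have hmax : M.IsMaximal := by
      refine Ideal.isMaximal_of_isIntegral_of_isMaximal_comap (R := G) M ?_
      rw [← (isMaximal_irrelevant 𝒢 h0).eq_of_le (Ideal.IsPrime.comap _).ne_top hM]
      exact isMaximal_irrelevant 𝒢 h0
    have h1 := VarDim.height_add_coheight k C ⟨M, ‹_›⟩
    rw [VarDim.ringKrullDim_eq_of_isIntegral (R := G) (S := C) (fun a b h =>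
      IsFractionRing.injective G L (congrArg Subtype.val h))] at h1
    have hco : Order.coheight (⟨M, ‹_›⟩ : PrimeSpectrum C) = 0 :=
      Order.coheight_eq_zero.2 fun q hq => (PrimeSpectrum.ext (hmax.eq_of_le q.2.ne_top hq)).ge
    rw [hco, add_zero, ← PrimeSpectrum.height_eq_orderHeight] at h1
    rw [← h1] at hdim
    exact WithBot.coe_le_coe.1 hdim
  obtain ⟨x, hx, hx0⟩ : ∃ x ∈ Gp, x ≠ 0 := by
    by_contra! hne
    have hbot : Gp = ⊥ := (Submodule.eq_bot_iff _).2 hne
    have hF : IsField G := by
      by_contra hF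
      exact Ring.ne_bot_of_isMaximal_of_not_isField (isMaximal_irrelevant 𝒢 h0) hF hbot
    rw [ringKrullDim_eq_zero_of_isField hF] at hdim
    exact absurd hdim (by decide)
  have hinj : Function.Injective (algebraMap G C) := fun a b h =>
    IsFractionRing.injective G L (congrArg Subtype.val h)
  let x' : C := algebraMap G C x
  have hx' : x' ≠ 0 := fun h => hx0 (hinj (h.trans (map_zero _).symm))
  have hxreg : IsSMulRegular C x := isSMulRegular_iff_right_eq_zero_of_smul.2 fun c hc => by
    rw [Algebra.smul_def] at hc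
    exact (mul_eq_zero.1 hc).resolve_left hx'
  -- nothing in `C ⧸ xC` is killed by the vertex
  have hker : ∀ f : C, (∀ g ∈ Gp, algebraMap G C g * f ∈ Ideal.span {x'}) → f ∈ Ideal.span {x'} := by
    intro f hf
    by_contra hne
    obtain ⟨M, hMp, hin, w, hMw⟩ := FiltBl28.exists_assocPrime_above _ hne
    have h2 := hht M fun g hg => hin _ (hf g hg)
    have hd : 2 ≤ LocCoh.depth (Localization.AtPrime M) (Localization.AtPrime M) := by
      haveI : IsIntegrallyClosed (Localization.AtPrime M) :=
        isIntegrallyClosed_of_isLocalization (Localization.AtPrime M) M.primeCompl M.primeCompl_le_nonZeroDivisors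
      refine SerreCrit.two_le_depth_of_normal (Localization.AtPrime M) ?_
      rw [IsLocalization.AtPrime.ringKrullDim_eq_height M]
      exact WithBot.coe_le_coe.2 h2
    obtain ⟨t, ht, htw⟩ := FiltBl28.exists_notMem_mul_mem M hd x'
      ((hMw x').2 (Ideal.mul_mem_right _ _ (Ideal.mem_span_singleton_self _)))
      (mem_nonZeroDivisors_of_ne_zero hx') w fun r hr => (hMw r).1 hr
    exact ht ((hMw t).2 htw)
  obtain ⟨y, hy, hyreg⟩ : ∃ y ∈ Gp, IsSMulRegular (QuotSMulTop x C) y := by
    by_contra! hne
    obtain ⟨m, hm0, hm⟩ := DepthLib.exists_ne_zero_smul_eq_zero hne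
    obtain ⟨f, rfl⟩ := Submodule.Quotient.mk_surjective _ m
    refine hm0 ((Submodule.Quotient.mk_eq_zero _).2 ?_)
    obtain ⟨c, hc⟩ := Ideal.mem_span_singleton'.1 (hker f fun g hg => by
      have := hm g hg
      rw [← Submodule.Quotient.mk_smul, Submodule.Quotient.mk_eq_zero,
        Submodule.mem_smul_pointwise_iff_exists] at this
      obtain ⟨c, -, hc⟩ := this
      rw [Algebra.smul_def, Algebra.smul_def] at hc
      exact Ideal.mem_span_singleton'.2 ⟨c, by rw [← hc, mul_comm]⟩)
    exact (Submodule.mem_smul_pointwise_iff_exists _ _ _).2 ⟨c, trivial, by rw [← hc, Algebra.smul_def, mul_comm]⟩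
  have hreg : RingTheory.Sequence.IsRegular C [x, y] := by
    refine ⟨(RingTheory.Sequence.isWeaklyRegular_cons_iff C x [y]).2 ⟨hxreg,
      (RingTheory.Sequence.isWeaklyRegular_singleton_iff _ y).2 hyreg⟩, fun htop => ?_⟩
    have hle : Ideal.ofList [x, y] ≤ Gp := Ideal.span_le.2 fun r hr => by
      simp only [Set.mem_setOf_eq, List.mem_cons, List.not_mem_nil, or_false] at hr
      rcases hr with rfl | rfl
      exacts [hx, hy]
    haveI : Nontrivial C := inferInstance
    have htop' : Gp • (⊤ : Submodule G C) = ⊤ := top_le_iff.1 (htop.le.trans (Submodule.smul_mono_left hle))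
    obtain ⟨r, hr, hr0⟩ := Submodule.exists_sub_one_mem_and_smul_eq_zero_of_fg_of_le_smul Gp ⊤
      (Module.finite_def.1 hC) htop'.ge
    have : algebraMap G C r = 0 := by
      have := hr0 1 trivial
      rwa [Algebra.smul_def, mul_one] at this
    rw [hinj (this.trans (map_zero _).symm), zero_sub] at hr
    exact (isMaximal_irrelevant 𝒢 h0).ne_top ((Ideal.eq_top_iff_one _).2 (neg_mem_iff.1 hr))
  have hη := S11593.result G Gp C x y hx hy hreg
  -- the cokernel of `G → C` is killed by a power of the vertex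
  have hrad : Gp ≤ (conductor G L).radical := by
    rw [Ideal.radical_eq_sInf]
    refine le_sInf fun p hp => ?_
    haveI := hp.2
    by_contra hne
    exact conductor_not_le 𝒢 L h0 hfin p (fun he => hne he.ge) hp.1
  obtain ⟨N, hN⟩ := Ideal.exists_pow_le_of_le_radical_of_fg hrad (IsNoetherian.noetherian _)
  have hcoker : LocCoh.IsPowerTorsion Gp Q₀ := fun m =>
    ⟨N, fun a ha => Module.mem_annihilator.1 ((annihilator_eq L).ge (hN ha)) m⟩
  let e : G →ₗ[G] C := Algebra.linearMap G C
  have he : LinearMap.ker e ≤ DRing.torsionSub Gp G := by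
    rw [LinearMap.ker_eq_bot.2 hinj]; exact bot_le
  obtain ⟨ψ', hψ', -⟩ := S11600.result G Gp G C G e he hcoker LinearMap.id
  have hbij := S11601.result G Gp G C G e he hcoker LinearMap.id Function.bijective_id ψ' hψ' hη
  obtain ⟨eH⟩ := S11591.result G Gp G
  refine ⟨(Submodule.Quotient.equiv _ _ (LinearEquiv.ofBijective ψ' hbij) ?_).trans eH⟩
  rw [← LinearMap.range_comp]
  exact congrArg LinearMap.range (hψ'.trans (LinearMap.comp_id _))

end Groth.Agent.NormCone28
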